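import Mathlib

/-!
# Linear algebra for involutions in characteristic two
-/

set_option autoImplicit false

namespace Cfsg.Agent.CharTwoInvol

open Matrix Module

section Alternating

variable {F : Type*} [Field F] {V : Type*} [AddCommGroup V] [Module F V] [FiniteDimensional F V]

/-- An alternating bilinear map has even rank. -/
theorem even_finrank_range_of_alternating :
    ∀ B : V →ₗ[F] V →ₗ[F] F, (∀ v, B v v = 0) → Even (finrank F (LinearMap.range B)) := by
  suffices h : ∀ (k : ℕ) (B : V →ₗ[F] V →ₗ[F] F), finrank F (LinearMap.range B) = k →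
      (∀ v, B v v = 0) → Even k from fun B hB => h _ B rfl hB
  intro k
  induction k using Nat.strong_induction_on with
  | _ k ih =>
    intro B hk hB
    rcases Nat.eq_zero_or_pos k with rfl | hkpos
    · exact Even.zero
    obtain ⟨u, w, huw⟩ : ∃ u w, B u w = 1 := by
      have hne : B ≠ 0 := by
        rintro rfl
        rw [LinearMap.range_zero, finrank_bot] at hk
        omega
      obtain ⟨u, hu⟩ : ∃ u, B u ≠ 0 := by
        by_contra h
        simp only [not_exists, ne_eq, not_not] at h
        exact hne (LinearMap.ext h)
      obtain ⟨w, hw⟩ : ∃ w, B u w ≠ 0 := by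
        by_contra h
        simp only [not_exists, ne_eq, not_not] at h
        exact hu (LinearMap.ext h)
      exact ⟨u, (B u w)⁻¹ • w, by simp [inv_mul_cancel₀ hw]⟩
    have hswap : ∀ x y, B y x = -B x y := by
      intro x y
      have h := hB (x + y)
      simp only [map_add, LinearMap.add_apply, hB, zero_add, add_zero] at h
      linear_combination h
    have hwu : B w u = -1 := by rw [hswap, huw]
    let B' : V →ₗ[F] V →ₗ[F] F :=
      B - (B.flip w).smulRight (B u) + (B.flip u).smulRight (B w)
    have hB' : ∀ x y, B' x y = B x y - B x w * B u y + B x u * B w y := by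
      intro x y
      simp [B']
    have halt : ∀ v, B' v v = 0 := by
      intro v
      rw [hB', hB, hswap v u, hswap v w]
      ring
    have hBu : B' u = 0 := by
      ext y
      rw [hB', huw, hB u, LinearMap.zero_apply]
      ring
    have hBw : B' w = 0 := by
      ext y
      rw [hB', hwu, hB w, LinearMap.zero_apply]
      ring
    let S : Submodule F V := Submodule.span F (Set.range ![u, w])
    have hind : LinearIndependent F ![u, w] := by
      rw [LinearIndependent.pair_iff]
      intro s t hst
      have h1 : B (s • u + t • w) w = 0 := by rw [hst]; simp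
      have h2 : B (s • u + t • w) u = 0 := by rw [hst]; simp
      simp only [map_add, map_smul, LinearMap.add_apply, LinearMap.smul_apply, hB, huw, hwu,
        smul_eq_mul] at h1 h2
      constructor
      · linear_combination h1
      · linear_combination -h2
    have hdisj : S ⊓ LinearMap.ker B = ⊥ := by
      rw [eq_bot_iff]
      rintro x ⟨hx, hxk⟩
      rw [SetLike.mem_coe, Submodule.mem_span_range_iff_exists_fun] at hx
      obtain ⟨c, rfl⟩ := hx
      rw [SetLike.mem_coe, LinearMap.mem_ker] at hxk
      have h1 := LinearMap.congr_fun hxk w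
      have h2 := LinearMap.congr_fun hxk u
      simp [Fin.sum_univ_two, huw, hwu, hB] at h1 h2
      simp [Fin.sum_univ_two, h1, h2]
    have hker : LinearMap.ker B' = S ⊔ LinearMap.ker B := by
      apply le_antisymm
      · intro x hx
        rw [LinearMap.mem_ker] at hx
        rw [show x = (B x w • u - B x u • w) + (x - B x w • u + B x u • w) by abel]
        refine Submodule.add_mem_sup ?_ ?_
        · exact Submodule.sub_mem _ (Submodule.smul_mem _ _ (Submodule.subset_span ⟨0, rfl⟩))
            (Submodule.smul_mem _ _ (Submodule.subset_span ⟨1, rfl⟩))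
        · rw [LinearMap.mem_ker]
          ext y
          have h := LinearMap.congr_fun hx y
          rw [hB', LinearMap.zero_apply] at h
          simpa using h
      · refine sup_le (Submodule.span_le.2 ?_) fun x hx => ?_
        · rintro _ ⟨i, rfl⟩
          fin_cases i <;> simp [hBu, hBw]
        · rw [LinearMap.mem_ker] at hx ⊢
          ext y
          simp [hB', hx]
    have hS : finrank F S = 2 := by
      rw [finrank_span_eq_card hind]; rfl
    have h1 := B.finrank_range_add_finrank_ker
    have h2 := B'.finrank_range_add_finrank_ker
    have h3 := Submodule.finrank_sup_add_finrank_inf_eq S (LinearMap.ker B)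
    rw [hdisj, finrank_bot, hS, ← hker] at h3
    obtain ⟨t, ht⟩ := ih (k - 2) (by omega) B' (by omega) halt
    exact ⟨t + 1, by omega⟩

end Alternating

section Matrices

variable {F : Type*} [Field F] {ι : Type*} [Fintype ι] [DecidableEq ι]

/-- A product `X * Y` through `Fin ℓ` with an invertible `ℓ × ℓ` submatrix has rank `ℓ`. -/
theorem rank_eq_of_submatrix_eq_one {ℓ : ℕ} (X : Matrix ι (Fin ℓ) F) (Y : Matrix (Fin ℓ) ι F)
    (r s : Fin ℓ → ι) (h : (X * Y).submatrix r s = 1) : (X * Y).rank = ℓ := by
  refine le_antisymm ((Matrix.rank_mul_le_left X Y).trans ?_) ?_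
  · simpa using Matrix.rank_le_card_width X
  · calc ℓ = ((X * Y).submatrix r s).rank := by rw [h, Matrix.rank_one, Fintype.card_fin]
      _ ≤ _ := Matrix.rank_submatrix_le _ _ _

theorem neg_eq_self [CharP F 2] (x : F) : -x = x := CharTwo.neg_eq x

end Matrices

end Cfsg.Agent.CharTwoInvol
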